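import Mathlib
import Cfsg.Agent.Lib.Helper83.CY2S.Defs

set_option autoImplicit false
set_option linter.unusedSectionVars false
set_option linter.unusedVariables false

namespace Cfsg.Agent.Lib.Helper83.CY2S

open scoped BigOperators

section abs
variable {k Λ : Type*} [Field k] [Ring Λ] [Algebra k Λ] {i y0 : Λ}

/-- RUNG PIND -/
theorem pind {y : Λ} (hiy : i * y = y) {n : ℕ} (hn : 2 ≤ n) (hyn : y ^ n = 0)
    (hyn1 : y ^ (n - 1) ≠ 0) : LinearIndependent k (fun a : Fin n => i * y ^ (a : ℕ)) := by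
  classical
  have hipow : ∀ a : ℕ, 1 ≤ a → i * y ^ a = y ^ a := by
    intro a ha
    obtain ⟨b, rfl⟩ : ∃ b, a = b + 1 := ⟨a - 1, by omega⟩
    rw [pow_succ', ← mul_assoc, hiy]
  rw [Fintype.linearIndependent_iff]
  intro c hc
  by_contra hcon
  push Not at hcon
  -- minimal index with nonzero coefficient
  have hex : ∃ a : ℕ, ∃ h : a < n, c ⟨a, h⟩ ≠ 0 := by
    obtain ⟨a, ha⟩ := hcon
    exact ⟨a, a.2, ha⟩
  obtain ⟨ha0, hca0⟩ := Nat.find_spec hex
  set a0 := Nat.find hex with ha0def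
  have hmin : ∀ a : Fin n, (a : ℕ) < a0 → c a = 0 := by
    intro a ha
    by_contra h
    exact Nat.find_min hex ha ⟨a.2, h⟩
  have h1 := congrArg (fun w => w * y ^ (n - 1 - a0)) hc
  simp only [Finset.sum_mul, zero_mul] at h1
  rw [Finset.sum_eq_single (⟨a0, ha0⟩ : Fin n)] at h1
  · rw [smul_mul_assoc, mul_assoc, ← pow_add, show a0 + (n - 1 - a0) = n - 1 by omega,
      hipow _ (by omega)] at h1
    rcases smul_eq_zero.1 h1 with h2 | h2
    · exact hca0 h2
    · exact hyn1 h2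
  · intro a _ hne
    rcases lt_or_gt_of_ne (fun h => hne (Fin.ext h) : (a : ℕ) ≠ a0) with h | h
    · rw [hmin a h, zero_smul, zero_mul]
    · rw [smul_mul_assoc, mul_assoc, ← pow_add]
      have : y ^ ((a : ℕ) + (n - 1 - a0)) = 0 := by
        obtain ⟨d, hd⟩ : ∃ d, (a : ℕ) + (n - 1 - a0) = n + d := ⟨(a : ℕ) + (n - 1 - a0) - n, by omega⟩
        rw [hd, pow_add, hyn, zero_mul]
      rw [this, mul_zero, smul_zero]
  · intro h
    exact absurd (Finset.mem_univ _) h

end abs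

end Cfsg.Agent.Lib.Helper83.CY2S
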